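import Cfsg.Agent.BX.Five.M11Dat
set_option linter.all false

/-!
# Cover certificate M11: kernel checks (generated by tools/cover/cover.py, helper15)
-/

set_option autoImplicit false
set_option maxRecDepth 100000

set_option Elab.async false

namespace Cfsg.Agent.BX.Five.M11

open Cfsg.Agent.BX.Cov Cfsg.Agent.Lib.PackMat Cfsg.Agent.Lib.PackMatMul

open Cfsg.Agent.Lib.PackMatOrbit (getO)

theorem c1 : baseC C5 dat dw [] = true := by decide +kernel

theorem c2 : tstC C5 dat tw dat.Tt = true := by decide +kernel

theorem cL000 : L000.All (lstP C5 dat L) := lstC_sound (by decide +kernel)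

theorem cL001 : L001.All (lstP C5 dat L) := lstC_sound (by decide +kernel)

theorem cL00 : L00.All (lstP C5 dat L) := Tr.All.node cL000 (lstC_sound (by decide +kernel)) cL001

theorem cL010 : L010.All (lstP C5 dat L) := lstC_sound (by decide +kernel)

theorem cL011 : L011.All (lstP C5 dat L) := lstC_sound (by decide +kernel)

theorem cL01 : L01.All (lstP C5 dat L) := Tr.All.node cL010 (lstC_sound (by decide +kernel)) cL011

theorem cL0 : L0.All (lstP C5 dat L) := Tr.All.node cL00 (lstC_sound (by decide +kernel)) cL01

theorem cL100 : L100.All (lstP C5 dat L) := lstC_sound (by decide +kernel)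

theorem cL101 : L101.All (lstP C5 dat L) := lstC_sound (by decide +kernel)

theorem cL10 : L10.All (lstP C5 dat L) := Tr.All.node cL100 (lstC_sound (by decide +kernel)) cL101

theorem cL110 : L110.All (lstP C5 dat L) := lstC_sound (by decide +kernel)

theorem cL111 : L111.All (lstP C5 dat L) := lstC_sound (by decide +kernel)

theorem cL11 : L11.All (lstP C5 dat L) := Tr.All.node cL110 (lstC_sound (by decide +kernel)) cL111

theorem cL1 : L1.All (lstP C5 dat L) := Tr.All.node cL10 (lstC_sound (by decide +kernel)) cL11

theorem cL : L.All (lstP C5 dat L) := Tr.All.node cL0 (lstC_sound (by decide +kernel)) cL1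

theorem c4 : cosC C5 dat L T T = true := by decide +kernel

theorem c5 : rootC C5 L T = true := by decide +kernel

theorem q0 : tgtC C5 dat ((qs.drop 0).take 6) = true := by decide +kernel

theorem c6 : ∀ q ∈ qs.drop 0, tgtB (mulM C5) (oneM C5) (C5.p - 1) dat q = true :=
  chunk 0 6 (tgtC_sound q0) (fun _ h => absurd h List.not_mem_nil)

theorem c9 : vecC C5 dat 0 alts = true := by decide +kernel

/-- **The cover.** -/
theorem cover {M : Fin 6 → Mt C5} (hM : ∀ i, M i = mat C5 (getO (oneM C5) dat.G0 i.val)) : Cover M dw [] tw :=
  cover_of good5 (by decide) c1 (tstC_sound c2) cL (cosC_sound c4) c5 c6 rfl rfl c9 hM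

end Cfsg.Agent.BX.Five.M11
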