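import Cfsg.Agent.BX.Five.T47
import Cfsg.Agent.BX.Frame.Fr5
set_option linter.all false

/-!
# The normaliser test at the class 5B from a cover and tests (helper12)
-/

set_option autoImplicit false

namespace Cfsg.Agent.BX.Five

open Cfsg.Agent.BMx.Fast Cfsg.Agent.H819.U33 Cfsg.Agent.BX.Cov Cfsg.Agent.BX.Max Cfsg.Agent.BX.Frame.Fr5 Subgroup
open Cfsg.Agent.BabyM.Conc (Ltr)

theorem g_fl5 (w : List (Fin 6 × ℕ)) : g (fl wgen5 w) = ev gen5 w := g_fl wgen5 w

/-- **The test at 5.** -/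
theorem nt5_of (h5 : H5) {K : Subgroup G} {dw tw : List (List (Fin 6 × ℕ))} (hC : Cover M5 dw [] tw) (hy : g wv ∈ K)
    (hd : ∀ w ∈ dw, ev gen5 w ∈ K) (ht : ∀ w ∈ tw, Tst K (ev gen5 w)) : NT K 5 := by
  have : Finite G := finG
  refine ⟨zpowers (g wv), zpowers_le.2 hy, by rw [Nat.card_zpowers, order5], fun X hX hT => ?_⟩
  exact (test0 (frame5 h5) hC (hX hy) (fun w hw => hX (hd w hw)) fun w hw => ht w hw X hX hT).trans
    (sup_le (gp_le hd) (zpowers_le.2 hy))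

/-- a list of tests in the frame at 5B -/
theorem tst5 {K : Subgroup G} (hB : Big K) {hs : List (List Ltr)} (hK : ∀ s ∈ hs, g s ∈ K)
    {L : List (List (Fin 6 × ℕ) × Ct)} (h : allT wgen5 hs L = true) : ∀ w ∈ L.map Prod.fst, Tst K (ev gen5 w) :=
  tst_all hB hK h

end Cfsg.Agent.BX.Five
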