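import Cfsg.Agent.BX.Five.Nt5
import Cfsg.Agent.BX.PGL.Eleven
set_option linter.all false

/-!
# `PGL₂(11)` contains the subgroup `K` of the frame at 5B (helper12)
-/

set_option autoImplicit false
set_option maxRecDepth 100000

namespace Cfsg.Agent.BX.Five.PGL

open Cfsg.Agent.BMx.Fast Cfsg.Agent.H819.U33 Cfsg.Agent.BX.Cov Cfsg.Agent.BX.Max Cfsg.Agent.BX.Frame.Fr5 Subgroup
open Cfsg.Agent.BX.PGL (wh ww HH u_mem h_mem w_mem)
open Cfsg.Agent.BabyM.Conc (Ltr)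

theorem mem3 : ∀ s ∈ [BX.PGL.wu, wh, ww], g s ∈ HH := by
  intro s hs
  simp only [List.mem_cons, List.not_mem_nil, or_false] at hs
  rcases hs with rfl | rfl | rfl
  exacts [u_mem, h_mem, w_mem]

theorem y_eq : g wv = g wh ^ 6 := by
  rw [← g_pw]
  exact eq_of_eqF (by decide +kernel)

theorem y_mem : g wv ∈ HH := y_eq ▸ pow_mem h_mem 6

theorem c_eq : ev gen5 [(4, 2), (5, 1), (4, 1), (5, 2), (4, 1), (5, 1)] * g wv ^ 2 = g wh := by
  rw [← g_fl5, ← g_pw, ← g_append]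
  exact eq_of_eqF (by decide +kernel)

theorem d_eq : ev gen5 [(4, 3), (5, 3), (4, 1), (5, 2)] * g wv ^ 3 = g ww := by
  rw [← g_fl5, ← g_pw, ← g_append]
  exact eq_of_eqF (by decide +kernel)

theorem c_mem : ev gen5 [(4, 2), (5, 1), (4, 1), (5, 2), (4, 1), (5, 1)] ∈ HH :=
  (mul_mem_cancel_right (pow_mem y_mem 2)).1 (c_eq ▸ h_mem)

theorem d_mem : ev gen5 [(4, 3), (5, 3), (4, 1), (5, 2)] ∈ HH :=
  (mul_mem_cancel_right (pow_mem y_mem 3)).1 (d_eq ▸ w_mem)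

theorem dw_mem : ∀ w ∈ ([[(4, 2), (5, 1), (4, 1), (5, 2), (4, 1), (5, 1)], [(4, 3), (5, 3), (4, 1), (5, 2)]] :
    List (List (Fin 6 × ℕ))), ev gen5 w ∈ HH := by
  intro s hs
  simp only [List.mem_cons, List.not_mem_nil, or_false] at hs
  rcases hs with rfl | rfl
  exacts [c_mem, d_mem]

end Cfsg.Agent.BX.Five.PGL
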