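import Cfsg.Agent.BX.Five.TstR
import Cfsg.Agent.BX.Five.PGLK
set_option linter.all false

/-!
# The tests at 5B for `PGL₂(11)` (generated by tools/cover/mktst.py, helper15)
-/

set_option autoImplicit false
set_option maxRecDepth 100000
set_option Elab.async false

namespace Cfsg.Agent.BX.Five.PGL

open Cfsg.Agent.BMx.Fast Cfsg.Agent.H819.U33 Cfsg.Agent.BX.Cov Cfsg.Agent.BX.Max Cfsg.Agent.BX.Frame.Fr5
open Cfsg.Agent.BX.PGL (wh ww HH)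
open Cfsg.Agent.BabyM.Conc (Ltr)

/-- certificates -/
def R0 : List (List (Fin 6 × ℕ) × List Ltr × Ct) := [
  ([(4, 1), (5, 1), (4, 1), (5, 1)],
   [.z, .Z8, .Z6, .Z4, .Z0, .X9, .X8, .X7, .X6, .X4, .X3, .y9, .y8, .y7, .y1, .p8, .hi, .p7, .hi, .p8, .hi, .p4, .hi,
    .p5, .hi, .p5, .xii, .p10, .xii, .y10, .p2, .xii, .y3],
   [0, 3, 1],
   [.Z8, .Z7, .Z4, .Z3, .X7, .X6, .X4, .X2, .y7, .y4, .y2, .y1, .p6, .hi, .p, .hi, .p, .hi, .p, .hi, .p, .hi, .p4,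
    .xii, .hi, .xii, .y4, .p9, .xii, .y1, .y9, .tau, .xii, .p, .xii, .y1, .hi, .xii, .y7, .y8, .taui, .p2, .xii, .p4,
    .xii, .p2, .y8, .taui, .xii, .p5, .xii, .p2, .xii, .taui, .xii, .p3, .xii, .y1], true),
  ([(5, 2), (4, 4), (5, 3)],
   [.Z10, .Z4, .Z1, .X10, .X9, .X6, .X4, .X3, .X2, .X0, .y10, .y7, .y6, .y3, .y1, .p10, .hi, .p7, .hi, .p6, .hi, .p6,
    .hi, .p, .hi, .p4, .hi, .xii, .hi, .xii, .y6, .p10, .xii, .y9, .tau, .xii, .y6, .p, .xii, .y2, .p, .xii, .y7,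
    .y10, .tau, .p8, .xii, .y7, .p4, .xii, .y1, .y2, .tau, .xii, .p7, .xii, .p10, .hi, .p, .y5, .tau, .xii, .hi,
    .p10],
   [0, 1, 2, 2, 3],
   [.Z10, .Z9, .Z7, .Z5, .Z3, .Z2, .X8, .X6, .X5, .X1, .X0, .y9, .y2, .y1, .p7, .hi, .p5, .hi, .p5, .hi, .p, .hi, .p,
    .hi, .p9, .xii, .p, .xii, .y10, .p4, .tau, .X0, .xii, .p3, .xii, .hi, .xii, .hi, .tau, .X0, .xii, .y1, .p4, .xii,
    .p4, .y5, .xii, .y7, .taui, .xii, .p2, .xii, .y10, .p2, .xii, .y10, .taui, .xii, .hi, .xii, .y9], true),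
  ([(4, 2), (5, 3), (4, 3), (5, 2)],
   [.Z8, .Z4, .Z3, .Z1, .X8, .X6, .X5, .X4, .X2, .X1, .X0, .y8, .y7, .y6, .y4, .y3, .y1, .p8, .hi, .p8, .hi, .p4, .hi,
    .p8, .hi, .p9, .xii, .y2, .hi, .xii, .p5, .xii, .y2, .tau, .xii, .p, .xii, .y2, .hi, .xii, .y5, .taui, .xii, .y1,
    .p, .xii, .y4, .p, .xii, .y1, .tau, .X0, .p6, .xii, .p9, .xii, .y4, .tau, .xii, .p4, .xii, .y5, .y10, .p5, .xii,
    .y1, .tau, .xii, .hi, .p10],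
   [0, 2, 1, 0, 2, 2, 1],
   [.Z10, .Z8, .Z7, .Z5, .Z0, .X10, .X9, .X6, .X5, .X0, .y4, .y3, .hi, .p2, .hi, .p7, .hi, .p4, .hi, .p5, .hi, .p9,
    .xii, .p, .xii, .y10, .p7, .taui, .xii, .y1, .p, .xii, .p, .xii, .y6, .tau, .X0, .xii, .p4, .xii, .y1, .p8, .y10,
    .xii, .y9, .p7, .tau, .xii, .y2, .p6, .xii, .y7, .p2, .xii, .y10, .tau], true)]

theorem r0 : allR [BX.PGL.wu, wh, ww] R0 = true := by decide +kernel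

/-- certificates -/
def R1 : List (List (Fin 6 × ℕ) × List Ltr × Ct) := [
  ([(4, 4), (5, 1), (4, 5), (5, 1), (4, 1)],
   [.z, .Z9, .Z4, .Z0, .X9, .X8, .X6, .X4, .X3, .X1, .X0, .y5, .y4, .y3, .y1, .p3, .hi, .p9, .hi, .p8, .hi, .p4, .hi,
    .p5, .hi, .p9, .hi, .xii, .p10, .xii, .y6, .p2, .xii, .y5, .y10, .tau, .xii, .p6, .xii, .y1, .p5, .xii, .y2, .tau,
    .xii, .p6, .xii, .hi, .y9, .p6, .taui, .xii, .y2, .p, .hi, .p],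
   [0, 1, 0, 1, 2, 2, 3],
   [.Z9, .Z5, .X10, .X9, .X4, .X0, .y9, .y8, .y6, .y5, .y1, .p3, .hi, .p6, .hi, .p3, .hi, .p10, .hi, .p10, .hi, .p7,
    .hi, .xii, .y2, .p10, .xii, .y10, .tau, .y1, .xii, .y6, .p10, .xii, .y8, .p10, .xii, .y4, .tau, .X0, .p10, .xii,
    .p8, .xii, .y2, .y4, .p3, .tau, .xii, .p5, .xii, .y1, .y7, .p2, .xii, .y2, .taui, .xii, .p4, .xii], true),
  ([(4, 2), (5, 3), (4, 3), (5, 3), (4, 1)],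
   [.Z10, .Z8, .Z7, .Z6, .Z5, .Z2, .Z0, .X7, .y10, .y9, .y8, .y6, .y4, .y2, .p3, .hi, .p7, .hi, .p3, .hi, .p7, .hi,
    .p5, .xii, .y2, .hi, .xii, .p10, .taui, .y1, .xii, .y1, .hi, .xii, .p10, .xii, .y2, .y8, .tau, .X0, .xii, .y6,
    .hi, .xii, .p8, .xii, .y9, .p8, .tau, .xii, .p9, .xii, .p5, .y10, .xii, .y10, .taui, .xii, .p10, .xii, .y8],
   [0, 1, 3],
   [.Z4, .Z1, .X9, .X6, .X5, .X2, .X1, .y8, .y4, .y1, .p5, .hi, .p10, .hi, .p10, .hi, .p6, .hi, .p6, .hi, .p9, .hi,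
    .xii, .p, .xii, .y10, .p4, .hi, .p8, .tau, .xii, .p, .xii, .y4, .hi, .xii, .y7, .y10, .tau, .X0, .y1, .xii, .p5,
    .xii, .y4, .p5, .xii, .y7, .tau, .xii, .y2, .p7, .xii, .y4, .p8, .xii, .y5, .taui, .xii, .p10, .xii, .y1], false),
  ([(5, 3), (4, 4), (5, 1), (4, 4), (5, 1)],
   [.Z9, .Z8, .Z7, .Z6, .Z5, .Z2, .X10, .X9, .X5, .X3, .X1, .y10, .y8, .y5, .y4, .y2, .p8, .hi, .p8, .hi, .p5, .hi,
    .p6, .hi, .p5, .hi, .xii, .p, .xii, .y1, .y3],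
   [0, 1, 0, 1, 0, 2, 1, 2],
   [.Z10, .Z6, .Z4, .Z3, .Z1, .X8, .X6, .X4, .X2, .X1, .y10, .y9, .y8, .y6, .p6, .hi, .p, .hi, .p8, .hi, .p10, .hi,
    .p10, .hi, .p, .xii, .p, .xii, .y4, .p8, .xii, .y5, .tau, .y1, .xii, .y2, .hi, .xii, .y9, .p10, .xii, .y4, .taui,
    .p2, .xii, .p4, .xii, .y7, .p5, .tau, .xii, .p3, .xii, .y3, .p, .xii, .y1, .y8], true)]

theorem r1 : allR [BX.PGL.wu, wh, ww] R1 = true := by decide +kernel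

/-- certificates -/
def R2 : List (List (Fin 6 × ℕ) × List Ltr × Ct) := [
  ([(4, 2), (5, 1), (4, 2), (5, 1), (4, 2), (5, 3), (4, 2), (5, 2)],
   [.Z10, .Z6, .Z4, .Z2, .Z1, .X9, .X7, .X6, .X4, .X3, .X2, .X1, .y10, .y8, .y2, .p5, .hi, .p5, .hi, .p9, .hi, .p7,
    .hi, .p, .xii, .p10, .xii, .y9, .p3, .hi, .p5, .taui, .xii, .p, .xii, .y1, .hi, .xii, .y4, .y7, .taui, .xii, .p,
    .xii, .y4, .hi, .xii, .y3, .y10, .tau, .p5, .xii, .p6, .xii, .y6, .tau, .xii, .p9, .xii, .y10, .p3, .xii, .y2,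
    .y3, .taui, .xii, .p10],
   [0, 1, 0, 2, 2, 1, 3],
   [.z, .Z8, .Z6, .Z4, .Z3, .Z0, .X6, .X4, .y8, .y7, .y6, .y5, .y2, .p10, .hi, .p7, .hi, .p8, .hi, .p7, .hi, .p3,
    .xii, .y2, .p, .xii, .p9, .xii, .y10, .tau, .xii, .y1, .p, .xii, .p, .y7, .xii, .y5, .y10, .tau, .p8, .xii, .y6,
    .hi, .p6, .xii, .y8, .y10, .p5, .taui, .xii, .p7, .xii, .p10, .y8, .xii, .y10, .taui, .xii, .y7], false),
  ([(5, 2), (4, 3), (5, 2), (4, 1), (5, 2), (4, 2), (5, 2)],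
   [.z, .Z9, .Z8, .Z3, .Z1, .Z0, .X10, .X7, .X6, .X4, .X0, .y6, .y5, .y3, .y1, .p6, .hi, .p5, .hi, .p10, .hi, .p9,
    .hi, .p6, .hi, .p7, .hi, .xii, .p10, .xii, .y9, .p8, .taui, .xii, .p, .xii, .hi, .y8, .xii, .y1, .y10, .tau, .xii,
    .p, .xii, .y1, .hi, .xii, .y1, .y10, .tau, .p9, .xii, .y6, .hi, .xii, .taui, .xii, .p5, .xii, .y2, .p5, .xii, .y9,
    .tau, .xii, .y2, .hi, .p7],
   [0, 1, 2, 2, 2, 3],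
   [.z, .Z7, .Z5, .Z4, .X10, .X8, .X6, .X2, .X1, .X0, .y10, .y7, .y6, .y3, .hi, .p8, .hi, .p7, .hi, .p4, .hi, .p7,
    .hi, .p5, .hi, .p2, .xii, .p, .xii, .y4, .p8, .xii, .y1, .taui, .xii, .p, .xii, .y1, .hi, .xii, .y5, .y8, .tau,
    .p4, .xii, .p9, .xii, .y5, .p4, .y10, .hi, .tau, .xii, .p6, .xii, .p3, .hi, .y8, .p2], false),
  ([(5, 1), (4, 3), (5, 3), (4, 3), (5, 2)],
   [.z, .Z10, .Z9, .Z8, .Z7, .Z4, .Z3, .Z2, .X7, .X6, .X2, .y5, .y4, .hi, .p8, .hi, .p9, .hi, .p3, .hi, .p, .hi, .p7,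
    .hi, .p10, .hi, .xii, .p10, .xii, .y8, .p10, .xii, .y2, .tau, .y1, .xii, .p10, .xii, .y8, .p10, .xii, .y9, .y10,
    .tau, .xii, .y2, .p, .xii, .y3, .hi, .xii, .y4, .y7, .taui, .p9, .xii, .y4, .p2, .xii, .tau, .xii, .p4, .xii, .y1,
    .y10, .p9, .xii, .taui, .xii, .y7, .p7],
   [0, 1, 0, 1, 0, 1, 2, 1],
   [.Z10, .Z9, .Z8, .Z6, .Z0, .X10, .X9, .X8, .X4, .X3, .y10, .y9, .y8, .y6, .y4, .hi, .p5, .hi, .p6, .hi, .p9, .hi,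
    .p8, .hi, .p5, .hi, .xii, .p, .xii, .y3, .p7, .xii, .y8, .tau, .y1, .xii, .p10, .xii, .y4, .p10, .xii, .y4, .y8,
    .tau, .p5, .xii, .p, .xii, .p9, .xii, .y2, .tau, .xii, .p7, .xii, .y2, .y7, .p3, .xii, .y4, .y8, .taui], false)]

theorem r2 : allR [BX.PGL.wu, wh, ww] R2 = true := by decide +kernel

/-- certificates -/
def R3 : List (List (Fin 6 × ℕ) × List Ltr × Ct) := [
  ([(5, 1), (4, 1), (5, 2), (4, 5), (5, 1), (4, 2)],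
   [.Z10, .Z8, .Z7, .Z5, .Z4, .Z3, .Z0, .X9, .X7, .X4, .X0, .y9, .y8, .y5, .y4, .y3, .y2, .p10, .hi, .p6, .hi, .p8,
    .hi, .p6, .hi, .p10, .hi, .p10, .xii, .p, .xii, .y2, .hi, .xii, .y4, .y5, .tau, .xii, .p, .xii, .hi, .y8, .xii,
    .y7, .y8, .taui, .p9, .xii, .y2, .p2, .xii, .y1, .y4, .taui, .xii, .p5, .xii, .y4, .y8, .p2, .tau, .xii, .y2,
    .p2],
   [0, 1, 0, 1, 2, 3],
   [.Z7, .Z0, .X5, .y9, .y8, .y5, .y4, .y2, .hi, .p6, .hi, .p10, .hi, .p5, .hi, .p10, .hi, .p8, .xii, .p10, .xii, .y6,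
    .p2, .xii, .y1, .y4, .tau, .xii, .y1, .p, .xii, .y4, .p, .xii, .y7, .tau, .X0, .xii, .p4, .xii, .y5, .y8, .p5,
    .xii, .hi, .y7, .taui, .xii, .p8, .xii, .p2, .y3, .xii, .y9, .y10, .tau, .xii, .hi], false),
  ([(4, 3), (5, 1), (4, 2), (5, 1), (4, 4), (5, 2)],
   [.z, .Z9, .Z8, .Z7, .Z3, .Z1, .Z0, .X10, .X7, .X6, .X5, .X1, .y10, .y8, .y6, .y5, .y3, .y1, .p8, .hi, .p4, .hi,
    .p5, .hi, .p8, .hi, .p10, .hi, .p, .xii, .p, .xii, .p2, .hi, .taui, .xii, .y1, .p, .xii, .y4, .p, .xii, .y1, .y9,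
    .tau, .X0, .p8, .xii, .y1, .p4, .xii, .y1, .p10, .xii, .y1, .tau, .xii, .p6, .xii, .p6, .y7, .xii, .y4, .y10,
    .tau, .xii, .hi, .xii],
   [0, 1, 2, 0, 1, 3],
   [.z, .Z6, .Z3, .Z0, .X10, .X8, .X7, .X6, .X1, .y7, .y6, .y4, .y2, .y1, .hi, .p5, .hi, .p3, .hi, .p3, .hi, .p3, .hi,
    .p8, .hi, .xii, .hi, .xii, .p5, .y7, .taui, .y1, .xii, .p10, .xii, .y1, .p10, .y9, .tau, .p9, .xii, .y3, .p, .xii,
    .p4, .taui, .xii, .p4, .xii, .y1, .y10, .p2, .hi, .p7, .tau, .xii, .p], false),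
  ([(4, 2), (5, 2), (4, 1), (5, 3), (4, 2), (5, 1), (4, 2)],
   [.Z10, .Z7, .Z6, .Z4, .Z3, .X10, .X8, .X7, .X6, .X2, .X1, .X0, .y10, .y9, .y7, .y6, .y4, .y2, .hi, .p7, .hi, .p5,
    .hi, .p, .hi, .p7, .hi, .p3, .hi, .xii, .p10, .xii, .y10, .p6, .xii, .y3, .y4, .taui, .xii, .y1, .p, .xii, .y2,
    .p, .xii, .y6, .taui, .xii, .p, .xii, .y3, .hi, .xii, .y5, .y10, .tau, .X0, .p10, .xii, .y4, .p9, .xii, .y6,
    .taui, .xii, .p5, .xii, .y1, .y5, .p8, .xii, .y9, .tau, .xii, .p, .xii, .y1],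
   [0, 1, 1],
   [.Z7, .Z6, .Z3, .Z2, .Z1, .Z0, .X9, .X8, .X6, .X5, .y5, .y4, .y3, .y2, .p4, .hi, .p10, .hi, .p9, .hi, .p7, .hi,
    .p7, .hi, .p4, .xii, .p2, .hi, .xii, .y5, .y7, .taui, .xii, .y1, .p, .xii, .p, .y7, .xii, .y6, .taui, .xii, .y2,
    .p8, .xii, .y7, .p4, .xii, .y5, .taui, .xii, .p7, .xii, .y1, .p3, .y8, .taui, .xii, .p], true)]

theorem r3 : allR [BX.PGL.wu, wh, ww] R3 = true := by decide +kernel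

/-- certificates -/
def R4 : List (List (Fin 6 × ℕ) × List Ltr × Ct) := [
  ([(4, 2), (5, 2), (4, 1), (5, 3), (4, 3), (5, 3)],
   [.Z4, .Z3, .Z1, .X10, .X9, .X8, .X7, .X4, .X3, .X2, .X0, .y9, .y8, .y7, .p9, .hi, .p6, .hi, .p8, .hi, .p7, .hi,
    .p7, .hi, .p9, .xii, .p, .xii, .y4, .p4, .xii, .y2, .taui, .y1, .xii, .p10, .xii, .y8, .p10, .xii, .y1, .y5,
    .taui, .y1, .xii, .p10, .xii, .y1, .p10, .xii, .y1, .y6, .taui, .X0, .p9, .xii, .y4, .hi, .xii, .tau, .xii, .p7,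
    .xii, .y1, .p5, .y10, .xii, .y9, .tau, .xii, .y6, .hi, .p3],
   [0, 1, 2, 0, 1, 2, 3],
   [.z, .Z10, .Z9, .Z5, .Z4, .Z3, .Z2, .X0, .y9, .y8, .y3, .y1, .p4, .hi, .p4, .hi, .p, .hi, .p6, .hi, .p7, .hi, .p3,
    .xii, .p10, .xii, .y5, .p9, .xii, .y5, .taui, .xii, .p, .xii, .y4, .hi, .xii, .y3, .tau, .xii, .p4, .xii, .p8,
    .y4, .xii, .y8, .hi, .taui, .xii, .p3, .xii, .p, .y2, .xii, .y8, .y10, .tau, .xii, .hi, .p8], false),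
  ([(4, 1), (5, 1), (4, 4), (5, 2), (4, 1), (5, 3), (4, 1), (5, 1)],
   [.Z9, .Z8, .Z5, .Z4, .Z3, .Z1, .Z0, .X10, .X8, .X7, .X6, .X3, .X0, .y10, .y9, .y7, .y6, .y4, .y3, .y2, .p, .hi, .p,
    .hi, .p3, .hi, .p7, .hi, .p10, .hi, .p3, .hi, .xii, .y2, .hi, .xii, .p10, .xii, .y9, .y10, .taui, .xii, .p, .xii,
    .y2, .hi, .xii, .y3, .y4, .tau, .X0, .xii, .y1, .p7, .xii, .y7, .p7, .xii, .y1, .y2, .y8, .tau, .xii, .p6, .xii,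
    .p2, .y6, .xii, .y6, .taui, .xii, .p5, .hi],
   [0, 1],
   [.z, .Z10, .Z7, .Z6, .Z2, .Z0, .X9, .X7, .X6, .X5, .X3, .X1, .y9, .y6, .y4, .y1, .p10, .hi, .p2, .hi, .p8, .hi,
    .p9, .hi, .p7, .hi, .p3, .hi, .taui, .xii, .y2, .p, .xii, .y2, .hi, .xii, .y6, .taui, .xii, .p6, .xii, .y3, .p6,
    .xii, .y2, .y8, .taui, .xii, .p2, .xii, .y1, .p2, .xii, .y1, .tau, .xii, .y7, .p2], false),
  ([(5, 2), (4, 2), (5, 1), (4, 2), (5, 1), (4, 3), (5, 2), (4, 1), (5, 1)],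
   [.Z7, .Z6, .Z4, .X10, .X8, .X6, .X5, .X4, .X3, .X1, .y10, .y8, .y6, .y2, .hi, .p6, .hi, .p4, .hi, .p10, .hi, .p9,
    .hi, .p10, .xii, .hi, .xii, .y8, .p2, .xii, .y3, .taui, .xii, .y1, .p, .xii, .y4, .p, .xii, .y1, .y10, .taui, .p6,
    .xii, .p5, .xii, .p9, .y3, .xii, .y2, .y7, .taui, .xii, .p2, .xii, .y1, .y10, .p10, .xii, .y7, .tau, .xii, .p2,
    .xii, .y3],
   [0, 1, 1, 0, 1, 3],
   [.Z7, .Z5, .Z4, .Z3, .Z2, .Z1, .X9, .X6, .X3, .X0, .y10, .y6, .y3, .y1, .hi, .p8, .hi, .p8, .hi, .p4, .hi, .p4,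
    .xii, .p10, .xii, .y4, .p10, .xii, .y8, .y9, .taui, .xii, .y1, .p, .xii, .y10, .p, .xii, .y5, .taui, .xii, .p7,
    .xii, .y2, .p9, .xii, .y5, .tau, .xii, .p4, .xii, .y3, .p6, .xii, .y1, .taui, .xii, .p4, .hi, .p4], true)]

theorem r4 : allR [BX.PGL.wu, wh, ww] R4 = true := by decide +kernel

/-- certificates -/
def R5 : List (List (Fin 6 × ℕ) × List Ltr × Ct) := [
  ([(5, 1), (4, 2), (5, 3), (4, 3), (5, 1), (4, 3)],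
   [.Z10, .Z8, .Z7, .Z4, .Z3, .Z2, .X8, .X4, .X3, .X2, .X1, .X0, .y9, .y5, .y4, .y3, .y2, .p5, .hi, .p7, .hi, .p9,
    .hi, .p6, .hi, .p8, .hi, .p6, .hi, .xii, .p, .xii, .y6, .p9, .xii, .y8, .tau, .xii, .y1, .p, .xii, .y10, .p, .xii,
    .y5, .tau, .hi, .xii, .p3, .hi, .xii, .y3, .y10, .p3, .taui, .xii, .p7, .xii, .y2, .p9, .y2, .xii, .y7, .taui,
    .xii, .y2, .hi, .xii, .y1],
   [0, 1, 0, 1, 3],
   [.Z8, .Z7, .X7, .X5, .X3, .X1, .y10, .y9, .y5, .y3, .y2, .p7, .hi, .p6, .hi, .p5, .hi, .p5, .hi, .p, .hi, .xii,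
    .p10, .xii, .y8, .p8, .xii, .y4, .taui, .y1, .xii, .p10, .xii, .y4, .p10, .xii, .y9, .y10, .tau, .X0, .p7, .xii,
    .p4, .xii, .y4, .hi, .p9, .taui, .xii, .p9, .xii, .y2, .p8, .tau, .xii, .y2, .p, .hi], true),
  ([(5, 2), (4, 1), (5, 2), (4, 3), (5, 1)],
   [.z, .Z8, .Z7, .Z5, .Z4, .Z1, .X9, .X6, .X5, .X4, .X1, .X0, .y9, .y8, .y6, .p6, .hi, .p6, .hi, .p4, .hi, .p8, .hi,
    .p9, .hi, .p, .hi, .xii, .p, .xii, .y2, .p5, .xii],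
   [0, 1, 0, 1, 2, 2, 3],
   [.Z10, .Z9, .Z7, .Z6, .Z5, .Z3, .Z1, .X10, .X7, .X3, .X1, .y8, .y7, .y3, .p8, .hi, .p5, .hi, .p10, .hi, .p7, .hi,
    .p8, .hi, .p5, .hi, .xii, .y2, .p3, .hi, .xii, .y9, .taui, .xii, .p, .xii, .hi, .y8, .xii, .y5, .taui, .X0, .xii,
    .p8, .xii, .y6, .p4, .xii, .y7, .tau, .xii, .y2, .p9, .xii, .y2, .p, .xii, .y6, .taui, .xii, .y2, .p4], false),
  ([(5, 1), (4, 3), (5, 2), (4, 1), (5, 2), (4, 2), (5, 3)],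
   [.Z8, .Z7, .Z6, .Z1, .X7, .X6, .X3, .X1, .X0, .y9, .y8, .y6, .y5, .y4, .y3, .p6, .hi, .p8, .hi, .p9, .hi, .p4, .hi,
    .p10, .hi, .p9, .hi, .xii, .p10, .xii, .y8, .p10, .xii, .tau, .y1, .xii, .p10, .xii, .y2, .p10, .xii, .y4, .tau,
    .X0, .xii, .p8, .xii, .y10, .p4, .xii, .p7, .y5, .taui, .xii, .p4, .xii, .y1, .y4, .p4, .xii, .y3, .tau, .xii,
    .p10, .xii, .y4],
   [0, 1, 2, 3],
   [.Z0, .X7, .X3, .X1, .y9, .y5, .p8, .hi, .p9, .hi, .p10, .hi, .p4, .hi, .p7, .hi, .p7, .xii, .p10, .xii, .y1, .p10,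
    .xii, .taui, .xii, .p, .xii, .y3, .y10, .hi, .xii, .y4, .y5, .taui, .p2, .xii, .p7, .xii, .y5, .p7, .xii, .y3,
    .taui, .xii, .p8, .xii, .y3, .y9, .p2, .xii, .tau, .xii, .p4, .hi, .p], true)]

theorem r5 : allR [BX.PGL.wu, wh, ww] R5 = true := by decide +kernel

/-- certificates -/
def R6 : List (List (Fin 6 × ℕ) × List Ltr × Ct) := [
  ([(4, 1), (5, 3), (4, 3), (5, 3), (4, 2)],
   [.z, .Z8, .Z7, .Z6, .Z4, .Z3, .Z2, .X8, .X7, .X5, .X3, .X0, .y9, .y8, .y6, .y5, .y4, .hi, .p9, .hi, .p10, .hi, .p2,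
    .hi, .p3, .hi, .p8, .hi, .xii, .p10, .xii, .y8, .tau, .xii, .p, .xii, .hi, .y8, .xii, .y1, .y4, .tau, .X0, .y1,
    .p5, .xii, .p9, .xii, .p8, .y4, .xii, .y4, .taui, .xii, .p7, .xii, .y1, .p8, .xii, .y1, .y8, .taui, .xii, .y8,
    .p5],
   [0, 3, 2, 2, 2, 1],
   [.Z10, .Z7, .Z6, .Z5, .Z4, .Z1, .Z0, .X8, .X4, .X3, .y7, .y6, .y4, .y3, .y2, .hi, .p7, .hi, .p3, .hi, .p4, .hi,
    .p6, .hi, .p, .xii, .p, .xii, .p4, .xii, .y2, .y9, .tau, .xii, .p, .xii, .y3, .hi, .xii, .y5, .tau, .X0, .p7,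
    .xii, .p8, .xii, .y10, .p3, .hi, .tau, .xii, .p4, .xii, .hi, .y7, .p10, .tau, .xii, .p], false),
  ([(4, 1), (5, 2), (4, 3), (5, 3)],
   [.z, .Z9, .Z8, .Z6, .Z5, .Z4, .Z2, .X10, .X9, .X8, .X7, .X5, .X1, .X0, .y4, .p10, .hi, .p9, .hi, .p, .hi, .p6, .hi,
    .p6, .hi, .p, .hi, .p7, .hi, .xii, .hi, .xii, .p10, .xii, .y2, .tau, .xii, .p, .xii, .y3, .y10, .hi, .xii, .y3,
    .taui, .xii, .p, .xii, .y4, .hi, .xii, .y1, .y4, .tau, .X0, .p4, .xii, .p8, .xii, .y5, .taui, .xii, .p4, .xii,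
    .p9, .y7, .xii, .tau, .xii, .p10],
   [0, 1, 0, 1, 3],
   [.Z0, .X8, .X7, .X6, .X5, .X0, .y10, .y8, .y5, .y3, .y1, .hi, .p8, .hi, .p, .hi, .p3, .hi, .p3, .hi, .p, .hi, .xii,
    .p, .xii, .y4, .hi, .p4, .tau, .xii, .y6, .p, .xii, .p, .y7, .xii, .y1, .taui, .xii, .hi, .xii, .p5, .y3, .xii,
    .y4, .y8, .tau, .xii, .p8, .xii, .p8, .y2, .hi, .tau, .xii, .p7], false),
  ([(4, 2), (5, 3), (4, 1), (5, 2), (4, 1)],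
   [.Z9, .Z7, .Z5, .Z4, .Z3, .Z2, .Z1, .X10, .X9, .X8, .X6, .X4, .X2, .y4, .y1, .p9, .hi, .p9, .hi, .p4, .hi, .p6,
    .hi, .p10, .hi, .p9, .hi, .xii, .hi, .xii, .p5, .y1, .tau, .xii, .y2, .p, .xii, .y1, .hi, .xii, .y3, .y10, .tau,
    .xii, .p, .xii, .y4, .hi, .xii, .y4, .y5, .y9, .tau, .p10, .xii, .p10, .xii, .y10, .tau, .xii, .p4, .xii, .y10,
    .p6, .xii, .y6, .taui, .xii, .y7, .p7],
   [0, 1, 0, 1, 2, 2, 3],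
   [.Z9, .Z7, .X9, .X8, .X6, .X5, .X3, .X2, .X1, .X0, .y9, .y6, .y5, .p3, .hi, .p7, .hi, .p3, .hi, .p9, .hi, .p4,
    .xii, .hi, .p10, .hi, .p8, .taui, .X0, .xii, .p3, .xii, .hi, .xii, .hi, .y8, .taui, .p6, .xii, .p4, .xii, .y4,
    .p9, .xii, .tau, .xii, .p7, .xii, .p8, .y8, .y9, .xii, .y7, .tau, .xii, .p6, .xii, .y6], true)]

theorem r6 : allR [BX.PGL.wu, wh, ww] R6 = true := by decide +kernel

/-- certificates -/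
def R7 : List (List (Fin 6 × ℕ) × List Ltr × Ct) := [
  ([(4, 1), (5, 3), (4, 1), (5, 2), (4, 2)],
   [.z, .Z9, .Z8, .Z7, .Z5, .Z4, .Z2, .Z1, .X10, .X9, .X4, .X1, .X0, .y9, .y8, .y2, .y1, .p3, .hi, .p7, .hi, .p7, .hi,
    .p8, .hi, .p, .hi, .p3, .hi, .xii, .p, .xii, .y3, .y4, .hi, .p8, .tau, .xii, .p, .xii, .y3, .hi, .xii, .y5, .y10,
    .taui, .p10, .xii, .y7, .p4, .hi, .xii, .y8, .p8, .taui, .xii, .p4, .xii, .y1, .p5, .xii, .y4, .tau, .xii, .y7,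
    .p5, .hi],
   [0, 1, 0, 1, 1, 3],
   [.Z10, .Z9, .Z7, .Z4, .Z2, .Z0, .X10, .X9, .X6, .X4, .X2, .y5, .p4, .hi, .p, .hi, .p3, .hi, .p3, .hi, .p8, .xii,
    .hi, .xii, .p2, .xii, .y3, .y10, .tau, .y1, .xii, .p10, .xii, .y1, .y9, .p10, .xii, .y2, .y4, .taui, .p10, .xii,
    .p2, .xii, .y3, .y4, .p8, .taui, .xii, .p5, .xii, .hi, .p, .hi, .y4, .taui, .xii, .p7], true),
  ([(5, 1), (4, 3), (5, 3), (4, 1), (5, 1)],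
   [.z, .Z9, .Z7, .Z4, .Z0, .X9, .X8, .X7, .X5, .X4, .X3, .X2, .X1, .X0, .y10, .y9, .y4, .y3, .y1, .p10, .hi, .p5,
    .hi, .p8, .hi, .p8, .hi, .p10, .hi, .p, .hi, .p6, .hi, .xii, .hi, .xii, .p10, .xii, .tau, .y1, .xii, .p10, .xii,
    .y5, .p10, .xii, .y2, .y10, .taui, .y1, .xii, .y2, .hi, .xii, .y7, .p10, .xii, .y10, .taui, .p9, .xii, .p10, .xii,
    .taui, .xii, .p9, .xii, .p3, .y9, .xii, .y4, .y8, .tau, .xii, .y2, .p3],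
   [0, 1, 2, 2, 2, 2, 2, 3],
   [.Z7, .Z6, .Z5, .Z1, .X10, .X8, .X7, .X5, .X3, .X0, .y9, .y8, .y7, .y5, .p7, .hi, .p7, .hi, .p9, .hi, .p10, .hi,
    .p4, .xii, .p2, .hi, .taui, .y1, .xii, .y2, .hi, .xii, .p10, .xii, .y4, .y10, .tau, .X0, .xii, .p10, .xii, .p8,
    .xii, .y1, .y9, .p5, .tau, .xii, .p5, .xii, .p2, .xii, .y1, .y2, .tau, .xii, .y8], false),
  ([(4, 1), (5, 1), (4, 2), (5, 3), (4, 3), (5, 1), (4, 2)],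
   [.Z9, .Z8, .Z7, .Z6, .Z4, .Z2, .Z1, .X8, .X5, .X3, .X1, .X0, .y4, .y2, .y1, .p8, .hi, .p9, .hi, .p6, .hi, .p6, .hi,
    .p10, .hi, .p6, .xii, .p, .xii, .y4, .y6, .tau, .xii, .y6, .p, .xii, .y2, .p, .xii, .y6, .taui, .xii, .y2, .p,
    .xii, .y2, .hi, .xii, .y6, .tau, .p10, .xii, .y2, .p8, .xii, .y4, .taui, .xii, .p6, .xii, .y1, .hi, .xii, .y4,
    .tau, .xii, .p6, .xii, .y7],
   [0, 1, 2, 2, 2, 3],
   [.z, .Z9, .Z4, .Z2, .Z1, .X7, .X6, .X1, .y10, .y9, .y4, .y3, .y2, .y1, .hi, .p, .hi, .p8, .hi, .p5, .xii, .p, .xii,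
    .y10, .p9, .xii, .y4, .tau, .y1, .xii, .p10, .xii, .y5, .p10, .xii, .y4, .y9, .taui, .hi, .xii, .p5, .xii, .y4,
    .y7, .p, .tau, .xii, .p4, .xii, .y1, .p8, .xii, .y6, .taui, .xii, .hi, .p10], true)]

theorem r7 : allR [BX.PGL.wu, wh, ww] R7 = true := by decide +kernel

/-- certificates -/
def R8 : List (List (Fin 6 × ℕ) × List Ltr × Ct) := [
  ([(5, 2), (4, 3), (5, 3), (4, 3), (5, 1)],
   [.Z10, .Z9, .Z8, .Z7, .Z6, .Z5, .Z3, .Z2, .Z1, .Z0, .X9, .y8, .y7, .y6, .y4, .y3, .y2, .y1, .p5, .hi, .p6, .hi,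
    .p7, .hi, .p7, .hi, .p7, .hi, .p9, .hi, .xii, .p3, .hi, .p8, .hi, .p6, .taui, .xii, .p, .xii, .y1, .y10, .hi,
    .xii, .y6, .taui, .xii, .p, .xii, .y2, .hi, .xii, .y7, .y10, .taui, .p8, .xii, .y7, .p3, .xii, .taui, .xii, .p4,
    .xii, .y1, .y5, .p4, .xii, .y4, .tau, .xii, .p5],
   [0, 1, 2, 0, 3, 1],
   [.z, .Z10, .Z8, .Z4, .Z3, .Z2, .X9, .X8, .X7, .X6, .X2, .y4, .y1, .p3, .hi, .p6, .hi, .p8, .hi, .p9, .hi, .p3,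
    .xii, .hi, .p8, .xii, .y2, .y7, .p10, .taui, .xii, .y2, .p, .xii, .y4, .hi, .xii, .y6, .tau, .xii, .p4, .xii, .y1,
    .p9, .xii, .y4, .y8, .tau, .xii, .p8, .xii, .p2, .xii, .y5, .y8, .taui, .xii, .p4, .hi], true),
  ([(5, 1), (4, 4), (5, 2), (4, 1), (5, 2), (4, 3)],
   [.Z9, .Z6, .Z2, .Z1, .X7, .X5, .X2, .X0, .y5, .y2, .y1, .hi, .p10, .hi, .p4, .hi, .p6, .hi, .p7, .hi, .p5, .hi,
    .p4, .xii, .p, .xii, .y10, .p9, .xii, .y10, .taui, .xii, .p, .xii, .y1, .y10, .hi, .xii, .y6, .tau, .xii, .y6, .p,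
    .xii, .p, .xii, .y1, .y2, .y9, .taui, .y1, .p4, .xii, .p4, .xii, .y2, .taui, .xii, .p7, .xii, .y6, .p7, .xii, .y6,
    .taui, .xii, .hi, .p4, .hi],
   [0, 1, 2, 1, 1, 0, 2, 1, 3],
   [.Z8, .Z7, .Z2, .Z1, .Z0, .X10, .X8, .X7, .X6, .X2, .X1, .y10, .y6, .y4, .p5, .hi, .p7, .hi, .p8, .hi, .p3, .hi,
    .p3, .hi, .p8, .xii, .p, .xii, .y1, .y2, .hi, .p8, .tau, .xii, .y6, .p, .xii, .p, .xii, .y2, .y6, .taui, .p2,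
    .xii, .p8, .xii, .y6, .p5, .hi, .p4, .taui, .xii, .p2, .xii, .hi, .xii, .tau, .xii, .p2, .xii, .y5], false),
  ([(4, 3), (5, 2), (4, 1), (5, 2), (4, 3), (5, 1), (4, 1)],
   [.Z10, .Z7, .Z6, .Z4, .Z3, .X10, .X9, .X8, .X0, .y10, .y6, .y5, .y2, .y1, .hi, .p7, .hi, .p8, .hi, .p9, .hi, .p10,
    .hi, .p5, .hi, .p10, .xii, .p4, .xii, .y3, .y5, .p5, .xii, .y4],
   [0, 1, 2, 2, 0, 1, 3],
   [.z, .Z9, .Z8, .Z5, .Z4, .Z3, .Z0, .X10, .X9, .X8, .X2, .X1, .X0, .y8, .y6, .y5, .p9, .hi, .p3, .hi, .p8, .hi,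
    .p10, .hi, .p3, .hi, .p9, .hi, .xii, .hi, .p2, .hi, .taui, .y1, .xii, .p10, .xii, .y4, .p10, .xii, .y4, .taui,
    .hi, .xii, .p7, .xii, .p10, .xii, .y4, .tau, .xii, .p9, .xii, .y1, .y8, .p9, .xii, .y4, .taui, .xii, .p6], true)]

theorem r8 : allR [BX.PGL.wu, wh, ww] R8 = true := by decide +kernel

/-- certificates -/
def R9 : List (List (Fin 6 × ℕ) × List Ltr × Ct) := [
  ([(0, 3), (3, 2), (2, 1)],
   [.z, .Z10, .Z9, .Z5, .Z4, .Z3, .Z2, .Z1, .Z0, .X9, .X8, .X7, .X4, .X3, .X2, .X1, .y10, .y9, .y8, .y7, .y6, .y4,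
    .y3, .y2, .y1, .p7, .hi, .p7, .hi, .p7, .hi, .p4, .hi, .p4, .hi, .p4, .xii, .p3, .hi, .xii, .y3, .y7, .tau, .xii,
    .y6, .p, .xii, .p, .xii, .y7, .y10, .taui, .xii, .p, .xii, .hi, .y8, .xii, .y4, .y6, .tau, .X0, .p8, .xii, .y4,
    .p10, .xii, .y7, .taui, .xii, .p4, .xii, .y5, .y10, .p5, .xii, .y2, .taui, .xii, .y7, .p7],
   [0, 1, 2, 0, 2, 1],
   [.z, .Z10, .Z9, .Z6, .Z3, .Z1, .X10, .X9, .X5, .X3, .X1, .X0, .y9, .y7, .y4, .y3, .p7, .hi, .p9, .hi, .p3, .hi,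
    .p7, .xii, .p, .xii, .hi, .p10, .taui, .xii, .y6, .p, .xii, .p, .xii, .y3, .y8, .tau, .xii, .y1, .p9, .xii, .y3,
    .p, .xii, .y3, .y4, .tau, .xii, .p7, .xii, .y4, .y9, .p3, .xii, .y2, .taui, .xii, .y7, .p5], true),
  ([(0, 3), (3, 1), (2, 2)],
   [.z, .Z8, .Z6, .Z5, .Z4, .Z3, .Z0, .X10, .X8, .X7, .X6, .X3, .X1, .X0, .y7, .y5, .y4, .y1, .p5, .hi, .p7, .hi,
    .p10, .hi, .p6, .hi, .p2, .xii, .y2, .p, .xii, .p, .xii, .y3, .tau, .xii, .p, .xii, .y1, .y10, .hi, .xii, .y7,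
    .y10, .tau, .X0, .y1, .xii, .p9, .xii, .y2, .y7, .y10, .p5, .xii, .y1, .y5, .taui, .xii, .p5, .xii, .y7, .p, .y1,
    .tau, .xii, .p, .hi, .p4],
   [0, 0, 1, 3, 2, 1],
   [.z, .Z9, .Z8, .Z2, .Z0, .X8, .X6, .X4, .X3, .y9, .y4, .y3, .y2, .y1, .p6, .hi, .p, .hi, .p8, .hi, .p9, .hi, .p10,
    .xii, .hi, .p2, .hi, .taui, .y1, .xii, .y6, .p10, .xii, .y8, .p10, .taui, .X0, .p6, .xii, .p2, .xii, .y9, .p5,
    .tau, .xii, .p2, .xii, .y7, .p2, .xii, .y9, .y10, .taui, .xii, .p2], false),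
  ([(1, 2), (2, 1)],
   [.Z7, .Z6, .Z4, .Z3, .Z1, .X10, .X3, .X2, .X0, .y9, .y8, .y7, .y5, .p7, .hi, .p3, .hi, .p7, .hi, .p, .hi, .p8,
    .xii, .y2, .p10, .xii, .y10, .p8, .taui, .y1, .xii, .p10, .xii, .y1, .p10, .xii, .y2, .y10, .taui, .y1, .xii,
    .p10, .xii, .y1, .y9, .p10, .xii, .taui, .p10, .xii, .y2, .p5, .xii, .y6, .tau, .xii, .p9, .xii, .p8, .y8, .y9,
    .tau, .xii, .p10, .hi, .p8],
   [0, 1, 1, 1, 3, 1],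
   [.z, .Z10, .Z7, .Z2, .Z1, .X10, .X4, .X3, .y10, .y7, .y5, .y2, .y1, .p2, .hi, .p4, .hi, .p10, .hi, .p5, .hi, .p4,
    .hi, .xii, .p, .xii, .y2, .p4, .hi, .p8, .tau, .xii, .p, .xii, .y1, .hi, .xii, .y1, .y10, .taui, .p7, .xii, .p3,
    .xii, .p2, .y9, .xii, .y4, .taui, .xii, .p9, .xii, .y9, .p5, .xii, .y1, .taui, .xii], true)]

theorem r9 : allR [BX.PGL.wu, wh, ww] R9 = true := by decide +kernel

/-- certificates -/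
def R10 : List (List (Fin 6 × ℕ) × List Ltr × Ct) := [
  ([(1, 1), (3, 2)],
   [.Z8, .Z4, .Z2, .Z0, .X9, .X5, .X1, .y10, .y9, .y8, .y7, .y6, .y4, .y2, .p6, .hi, .p10, .hi, .p7, .hi, .p4, .hi,
    .p8, .hi, .xii, .p10, .xii, .p9, .xii, .y5, .taui, .y1, .xii, .y6, .p10, .xii, .y8, .p10, .xii, .y2, .y4, .taui,
    .xii, .p, .xii, .y1, .hi, .xii, .y4, .y5, .y9, .tau, .p6, .xii, .p9, .xii, .y9, .taui, .xii, .p6, .xii, .y5, .p2,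
    .xii, .y1, .y8, .taui, .xii, .hi],
   [0, 1, 2, 1, 3, 1],
   [.z, .Z10, .Z9, .Z5, .X8, .X5, .X1, .X0, .y10, .y6, .y5, .hi, .p9, .hi, .p8, .hi, .p7, .hi, .p, .hi, .p6, .hi, .p4,
    .xii, .hi, .xii, .p10, .y8, .xii, .y8, .taui, .xii, .p, .xii, .y4, .hi, .xii, .y4, .y6, .tau, .p8, .xii, .y8, .p4,
    .xii, .hi, .p6, .tau, .xii, .p2, .xii, .p2, .y1, .xii, .y4, .y8, .taui, .xii, .p8], false),
  ([(1, 4), (0, 1), (3, 2), (2, 1)],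
   [.Z9, .Z8, .Z7, .Z6, .Z4, .Z2, .Z1, .Z0, .X10, .X2, .X1, .X0, .y9, .y8, .y6, .y4, .y2, .hi, .p4, .hi, .p8, .hi,
    .p10, .hi, .p9, .hi, .p7, .xii, .p, .xii, .y4, .p, .xii, .y7, .tau, .xii, .p, .xii, .y1, .y6, .hi, .xii, .y5,
    .y10, .taui, .y1, .xii, .y1, .hi, .xii, .p10, .xii, .y9, .tau, .y1, .p7, .xii, .hi, .xii, .y8, .taui, .xii, .p5,
    .xii, .y5, .p, .xii, .y2, .y10, .taui, .xii, .p5],
   [0, 0, 1, 3],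
   [.Z2, .Z0, .X10, .X7, .X6, .X3, .y10, .y8, .y7, .y6, .y3, .y1, .hi, .p3, .hi, .p6, .hi, .p7, .hi, .p10, .hi, .p8,
    .xii, .p10, .xii, .y6, .p3, .hi, .p5, .taui, .xii, .y6, .p, .xii, .hi, .p8, .y3, .taui, .p2, .xii, .p4, .xii, .y8,
    .taui, .xii, .p4, .xii, .y3, .p9, .xii, .y4, .taui, .xii, .p5, .hi, .p], false),
  ([(1, 2), (0, 3), (3, 1), (2, 1)],
   [.z, .Z10, .Z9, .Z8, .Z6, .Z5, .Z3, .Z2, .Z1, .X9, .X7, .X4, .X3, .X2, .X0, .y9, .y7, .y6, .y4, .y2, .p, .hi, .p6,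
    .hi, .p10, .hi, .p10, .hi, .p3, .hi, .p3, .xii, .p10, .xii, .y7, .p6, .xii, .y7, .tau, .xii, .p, .xii, .y1, .hi,
    .xii, .y1, .y9, .tau, .xii, .y1, .p, .xii, .y10, .p, .xii, .y4, .y5, .tau, .p10, .xii, .y4, .p9, .xii, .y7, .taui,
    .xii, .p5, .xii, .y6, .hi, .y5, .taui, .xii, .hi, .p10],
   [0, 0, 1, 0, 2, 1],
   [.z, .Z10, .Z4, .X6, .X5, .X4, .y10, .y9, .y8, .y5, .y2, .p8, .hi, .p6, .hi, .p, .hi, .p7, .hi, .p2, .xii, .hi,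
    .xii, .p2, .xii, .y3, .taui, .xii, .y6, .p, .xii, .y2, .p, .xii, .y7, .y10, .tau, .y1, .xii, .p5, .xii, .y6, .p9,
    .xii, .y1, .y4, .taui, .xii, .p4, .xii, .y1, .y2, .p2, .hi, .p10, .taui, .xii, .p, .hi], false)]

theorem r10 : allR [BX.PGL.wu, wh, ww] R10 = true := by decide +kernel

/-- certificates -/
def R11 : List (List (Fin 6 × ℕ) × List Ltr × Ct) := [
  ([(1, 1), (0, 3), (3, 1)],
   [.Z10, .Z9, .Z7, .Z6, .Z5, .Z4, .Z2, .Z1, .Z0, .X10, .X9, .X8, .X2, .y7, .y2, .p10, .hi, .p10, .hi, .p8, .hi, .p10,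
    .hi, .p3, .hi, .p7, .hi, .xii, .p, .xii, .y2, .p7, .taui, .xii, .p, .xii, .y4, .y10, .hi, .xii, .y6, .tau, .xii,
    .p, .xii, .y2, .hi, .xii, .y4, .y5, .taui, .p10, .xii, .p6, .xii, .y8, .tau, .xii, .p6, .xii, .p2, .y1, .xii, .y7,
    .taui, .xii, .y2],
   [0, 1, 0, 1, 3],
   [.Z10, .Z8, .Z5, .Z4, .X10, .X7, .X4, .X3, .X0, .y9, .y8, .y7, .y6, .y3, .y2, .y1, .p2, .hi, .p10, .hi, .p6, .hi,
    .p8, .hi, .p5, .hi, .p10, .xii, .y2, .p10, .xii, .y5, .p5, .taui, .xii, .p, .xii, .y4, .y10, .hi, .xii, .y4, .y7,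
    .taui, .xii, .p3, .xii, .p2, .y3, .xii, .y6, .taui, .xii, .p9, .xii, .y1, .p, .hi], false),
  ([(1, 2), (0, 1), (3, 3), (2, 2)],
   [.z, .Z10, .Z8, .Z7, .Z6, .Z4, .Z3, .Z2, .Z1, .X8, .X7, .X6, .X4, .X2, .X1, .y9, .y8, .y7, .y3, .y1, .p10, .hi,
    .p7, .hi, .p6, .hi, .p5, .hi, .p, .hi, .p10, .xii, .hi, .xii, .p6, .xii, .y3, .taui, .xii, .p, .xii, .y3, .hi,
    .xii, .y5, .y10, .tau, .X0, .xii, .y1, .p8, .xii, .y8, .y9, .p4, .xii, .y9, .tau, .xii, .p5, .hi, .xii, .p3, .y6,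
    .tau, .xii, .y2, .hi, .p10, .hi],
   [0, 2, 1, 1, 3],
   [.Z9, .Z7, .Z6, .Z4, .Z1, .X8, .X6, .y8, .y5, .y1, .hi, .p6, .hi, .p7, .hi, .p7, .hi, .p4, .hi, .p8, .hi, .xii,
    .p10, .xii, .y6, .p8, .tau, .xii, .y2, .p, .xii, .y1, .hi, .xii, .y1, .taui, .xii, .p7, .xii, .y10, .p4, .xii,
    .y5, .y10, .p3, .tau, .xii, .p5, .xii, .p2, .xii, .y5, .y7, .taui, .xii, .y8, .p, .xii], true),
  ([(1, 3), (0, 1), (2, 2)],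
   [.z, .Z10, .Z9, .Z8, .Z4, .Z2, .Z0, .X10, .X9, .X8, .X7, .X6, .X4, .X1, .y7, .y4, .p4, .hi, .p8, .hi, .p4, .hi,
    .p8, .hi, .p4, .hi, .p2, .xii, .p3, .hi, .xii, .y2, .p10, .tau, .xii, .y1, .p, .xii, .y10, .p, .xii, .y6, .tau,
    .X0, .p8, .xii, .y5, .p, .xii, .y3, .p7, .xii, .y4, .tau, .xii, .p6, .xii, .p, .xii, .y5, .y10, .taui, .xii, .p7],
   [0, 0, 1, 0, 1],
   [.z, .Z10, .Z8, .Z5, .Z4, .X5, .X4, .X1, .y7, .y5, .y2, .p8, .hi, .p10, .hi, .p4, .hi, .p7, .hi, .p, .xii, .p3,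
    .hi, .xii, .y3, .y7, .taui, .y1, .xii, .p10, .xii, .y2, .p10, .xii, .y2, .y10, .tau, .X0, .p9, .xii, .y2, .p5,
    .hi, .xii, .y7, .p5, .taui, .xii, .p7, .xii, .y2, .p7, .y4, .xii, .y10, .taui, .xii, .y6, .hi, .p7], true)]

theorem r11 : allR [BX.PGL.wu, wh, ww] R11 = true := by decide +kernel

/-- certificates -/
def R12 : List (List (Fin 6 × ℕ) × List Ltr × Ct) := [
  ([(1, 1), (0, 2), (3, 4), (2, 1)],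
   [.Z10, .Z8, .Z6, .Z5, .Z4, .Z2, .Z1, .X9, .X7, .X6, .X5, .X3, .y10, .y9, .y8, .y6, .y4, .p6, .hi, .p, .hi, .p7,
    .hi, .p, .hi, .p10, .xii, .p10, .xii, .y4, .p10, .xii, .y3, .y7, .tau, .xii, .y1, .p, .xii, .y2, .p, .xii, .y3,
    .y4, .tau, .y1, .p7, .xii, .p, .xii, .y10, .hi, .p6, .taui, .xii, .p7, .xii, .y2, .y4, .p8, .xii, .y8, .tau, .xii,
    .y2],
   [0, 1, 0, 3, 2, 1],
   [.Z9, .Z8, .Z7, .Z6, .X10, .X8, .X7, .X5, .X2, .y9, .y8, .y5, .hi, .p3, .hi, .p9, .hi, .p8, .hi, .p7, .hi, .xii,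
    .p, .xii, .y1, .y4, .taui, .xii, .y2, .p, .xii, .y4, .hi, .xii, .y2, .y7, .tau, .X0, .p4, .xii, .p4, .xii, .y7,
    .p2, .hi, .p5, .y5, .taui, .xii, .p9, .xii, .y10, .p9, .y4, .xii, .tau, .xii, .p8, .xii], false),
  ([(1, 1), (0, 1), (3, 1), (2, 2)],
   [.Z9, .Z8, .Z7, .Z5, .Z2, .Z1, .Z0, .X10, .X9, .X8, .X5, .X4, .X1, .X0, .y10, .y9, .y4, .y3, .y1, .p2, .hi, .p3,
    .hi, .p6, .hi, .p5, .hi, .p9, .hi, .p, .hi, .xii, .p10, .xii, .y10, .p9, .xii, .y5, .tau, .xii, .p, .xii, .y2,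
    .hi, .xii, .y4, .y5, .tau, .y1, .xii, .p10, .xii, .y2, .p10, .xii, .y2, .taui, .p5, .xii, .y6, .p, .xii, .tau,
    .xii, .p7, .xii, .p, .y8, .hi, .p2, .taui, .xii, .p2, .hi, .p],
   [0, 1, 0, 1, 3],
   [.Z10, .Z8, .Z6, .Z2, .X7, .y9, .y7, .y6, .y5, .p4, .hi, .p10, .hi, .p10, .hi, .p5, .hi, .p5, .hi, .xii, .p, .xii,
    .y1, .y4, .hi, .p8, .taui, .xii, .p, .xii, .y3, .y10, .hi, .xii, .y6, .taui, .X0, .xii, .p10, .xii, .p2, .y1,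
    .xii, .p7, .y4, .tau, .xii, .p6, .xii, .y3, .p2, .xii, .y9, .y10, .tau, .xii, .p3, .xii], false),
  ([(1, 1), (0, 1), (3, 2), (2, 2)],
   [.Z10, .Z9, .Z8, .Z6, .X10, .X7, .X5, .X4, .X2, .X1, .X0, .y6, .y4, .y2, .y1, .p5, .hi, .p9, .hi, .p4, .hi, .p7,
    .hi, .p9, .hi, .xii, .p10, .xii, .y4, .taui, .xii, .y1, .p, .xii, .p, .y7, .xii, .y4, .y7, .taui, .xii, .y2, .p,
    .xii, .y1, .hi, .xii, .y4, .y7, .tau, .p8, .xii, .p, .xii, .y2, .tau, .xii, .y2, .p5, .xii, .p, .xii, .y4, .tau,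
    .xii, .y6],
   [0, 1, 3],
   [.z, .Z10, .Z7, .Z6, .Z5, .Z2, .Z0, .X3, .y8, .y6, .p3, .hi, .p9, .hi, .p9, .hi, .p8, .hi, .p9, .hi, .p9, .xii,
    .p10, .xii, .y4, .p10, .xii, .y4, .taui, .xii, .p, .xii, .p2, .hi, .xii, .tau, .X0, .p4, .xii, .p7, .xii, .y1,
    .p10, .hi, .y7, .p8, .tau, .xii, .p5, .xii, .p2, .y8, .xii, .y2, .taui, .xii, .y6, .p10, .xii, .y7], true)]

theorem r12 : allR [BX.PGL.wu, wh, ww] R12 = true := by decide +kernel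

/-- the tested words -/
def tw2 : List (List (Fin 6 × ℕ)) :=
  R0.map Prod.fst ++ (R1.map Prod.fst ++ (R2.map Prod.fst ++ (R3.map Prod.fst ++ (R4.map Prod.fst ++ (R5.map Prod.fst ++ (R6.map Prod.fst ++ (R7.map Prod.fst ++ (R8.map Prod.fst ++ (R9.map Prod.fst ++ (R10.map Prod.fst ++ (R11.map Prod.fst ++ (R12.map Prod.fst))))))))))))

/-- **The tests.** -/
theorem tests (hB : Big HH) : ∀ w ∈ tw2, Tst HH (ev gen5 w) :=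
  all_app (tstR hB mem3 r0) <|
  all_app (tstR hB mem3 r1) <|
  all_app (tstR hB mem3 r2) <|
  all_app (tstR hB mem3 r3) <|
  all_app (tstR hB mem3 r4) <|
  all_app (tstR hB mem3 r5) <|
  all_app (tstR hB mem3 r6) <|
  all_app (tstR hB mem3 r7) <|
  all_app (tstR hB mem3 r8) <|
  all_app (tstR hB mem3 r9) <|
  all_app (tstR hB mem3 r10) <|
  all_app (tstR hB mem3 r11) <|
  tstR hB mem3 r12

end Cfsg.Agent.BX.Five.PGL
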