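import Cfsg.Agent.BMx.Fast
import Cfsg.Agent.BX.Max.Iface
import Cfsg.Agent.BX.Cov.Glue
set_option linter.all false

/-!
# Cheap certificates for the tests (helper12)

A product of the test element and of elements of `K` is conjugate to the fixed element `g w47` of order 47 or to its inverse.
-/

set_option autoImplicit false

namespace Cfsg.Agent.BX.Five

open Cfsg.Agent.BMx.Fast Cfsg.Agent.H819.U33 Cfsg.Agent.BX.Cov Cfsg.Agent.BX.Max
open Cfsg.Agent.BabyM.Conc (Ltr)
open Cfsg.Agent.BabyM.TransInv (winv)

/-- a short word of order 47 -/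
def w47 : List Ltr := [.xi, .p5, .tau]

theorem o47 : orderOf (g w47) = 47 := orderOf_of_ordF (by decide +kernel)

/-- the word `w47` or its inverse -/
def z47 (b : Bool) : List Ltr := Bool.rec w47 (winv w47) b

theorem oz47 (b : Bool) : orderOf (g (z47 b)) = 47 := by
  cases b
  · exact o47
  · show orderOf (g (winv w47)) = 47
    rw [g_winv, orderOf_inv, o47]

/-- `w` is conjugate by `x` to `z47 b` -/
noncomputable def is47 (w x : List Ltr) (b : Bool) : Bool := eqF (x ++ w) (z47 b ++ x)

theorem ord_of_is47 {w x : List Ltr} {b : Bool} (h : is47 w x b = true) : orderOf (g w) = 47 := by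
  have h1 := eq_of_eqF h
  rw [g_append, g_append] at h1
  rw [← oz47 b]
  exact SemiconjBy.orderOf_eq (g x) h1

/-- the concatenation of the words with the given numbers -/
def cat (L : List (List Ltr)) (ix : List ℕ) : List Ltr := (ix.map fun i => L.getD i []).flatten

theorem cat_mem {X : Subgroup G} {L : List (List Ltr)} (h : ∀ w ∈ L, g w ∈ X) (ix : List ℕ) : g (cat L ix) ∈ X := by
  induction ix with
  | nil => exact (g_nil ▸ X.one_mem : g [] ∈ X)
  | cons i ix ih =>
    have e : cat L (i :: ix) = L.getD i [] ++ cat L ix := rfl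
    rw [e, g_append]
    refine X.mul_mem ?_ ih
    rw [List.getD_eq_getElem?_getD]
    cases hi : L[i]? with
    | none => exact (g_nil ▸ X.one_mem : g [] ∈ X)
    | some w => exact h w (List.mem_of_getElem? hi)

/-- **A test** : `t` has the number `0`, the words `hs` of elements of `K` have the numbers `1, 2, ...`. -/
theorem tst_of {K : Subgroup G} (hB : Big K) {hs : List (List Ltr)} (hK : ∀ s ∈ hs, g s ∈ K) {t x : List Ltr}
    {ix : List ℕ} {b : Bool} (h : is47 (cat (t :: hs) ix) x b = true) : Tst K (g t) :=
  hB.tst (fun X hX ht => cat_mem (fun w hw => by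
    rcases List.mem_cons.1 hw with rfl | hw
    · exact ht
    · exact hX (hK w hw)) ix) (ord_of_is47 h)

/-- the word in the letters of a word in the generators -/
def fl {r : ℕ} (W : Fin r → List Ltr) (w : List (Fin r × ℕ)) : List Ltr := (w.map fun q => pw (W q.1) q.2).flatten

theorem g_fl {r : ℕ} (W : Fin r → List Ltr) (w : List (Fin r × ℕ)) : g (fl W w) = ev (fun i => g (W i)) w := by
  induction w with
  | nil => exact g_nil
  | cons q w ih =>
    have e : fl W (q :: w) = pw (W q.1) q.2 ++ fl W w := rfl
    rw [e, g_append, ih, ev_cons, g_pw]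

/-- the certificate of a test : the numbers of the factors, the conjugating word, the sign -/
abbrev Ct : Type := List ℕ × List Ltr × Bool

/-- the check of a list of tests, given as words in the generators `W` -/
noncomputable def allT {r : ℕ} (W : Fin r → List Ltr) (hs : List (List Ltr)) (L : List (List (Fin r × ℕ) × Ct)) : Bool :=
  List.rec (motive := fun _ => Bool) true
    (fun c _ ih => and (is47 (cat (fl W c.1 :: hs) c.2.1) c.2.2.1 c.2.2.2) ih) L

/-- **A list of tests.** -/
theorem tst_all {r : ℕ} {W : Fin r → List Ltr} {K : Subgroup G} (hB : Big K) {hs : List (List Ltr)}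
    (hK : ∀ s ∈ hs, g s ∈ K) {L : List (List (Fin r × ℕ) × Ct)} (h : allT W hs L = true) :
    ∀ w ∈ L.map Prod.fst, Tst K (ev (fun i => g (W i)) w) := by
  induction L with
  | nil => intro w hw; exact absurd hw (by simp)
  | cons c L ih =>
    have h' : and (is47 (cat (fl W c.1 :: hs) c.2.1) c.2.2.1 c.2.2.2) (allT W hs L) = true := h
    rw [Bool.and_eq_true] at h'
    intro w hw
    rcases List.mem_cons.1 hw with rfl | hw
    · rw [← g_fl]
      exact tst_of hB hK h'.1
    · exact ih h'.2 w hw

/-- the check of a list of tests, given as words in the letters -/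
noncomputable def allL (hs : List (List Ltr)) (L : List (List Ltr × Ct)) : Bool :=
  List.rec (motive := fun _ => Bool) true
    (fun c _ ih => and (is47 (cat (c.1 :: hs) c.2.1) c.2.2.1 c.2.2.2) ih) L

theorem tst_allL {K : Subgroup G} (hB : Big K) {hs : List (List Ltr)}
    (hK : ∀ s ∈ hs, g s ∈ K) {L : List (List Ltr × Ct)} (h : allL hs L = true) :
    ∀ w ∈ L.map Prod.fst, Tst K (g w) := by
  induction L with
  | nil => intro w hw; exact absurd hw (by simp)
  | cons c L ih =>
    have h' : and (is47 (cat (c.1 :: hs) c.2.1) c.2.2.1 c.2.2.2) (allL hs L) = true := h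
    rw [Bool.and_eq_true] at h'
    intro w hw
    rcases List.mem_cons.1 hw with rfl | hw
    · exact tst_of hB hK h'.1
    · exact ih h'.2 w hw

end Cfsg.Agent.BX.Five

private theorem eqs_bx12_t47 : _root_.True := by
  try have : _root_.True := by simp only [_root_.Cfsg.Agent.BX.Five.w47.eq_1]
  try have : _root_.True := by simp only [_root_.Cfsg.Agent.BX.Five.z47.eq_1]
  try have : _root_.True := by simp only [_root_.Cfsg.Agent.BX.Five.is47.eq_1]
  try have : _root_.True := by simp only [_root_.Cfsg.Agent.BX.Five.cat.eq_1]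
  try have : _root_.True := by simp only [_root_.Cfsg.Agent.BX.Five.fl.eq_1]
  try have : _root_.True := by simp only [_root_.Cfsg.Agent.BX.Five.allT.eq_1]
  try have : _root_.True := by simp only [_root_.Cfsg.Agent.BX.Five.allL.eq_1]
  exact _root_.True.intro
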