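import Cfsg.Agent.BX.Five.Nt5
set_option linter.all false

/-!
# Tests in the frame at 5B through reduced words (helper15)
-/

set_option autoImplicit false

namespace Cfsg.Agent.BX.Five

open Cfsg.Agent.BMx.Fast Cfsg.Agent.H819.U33 Cfsg.Agent.BX.Cov Cfsg.Agent.BX.Max Cfsg.Agent.BX.Frame.Fr5
open Cfsg.Agent.BabyM.Conc (Ltr)

/-- the check of a list of tests: word in the generators, reduced word, certificate -/
noncomputable def allR (hs : List (List Ltr)) (L : List (List (Fin 6 × ℕ) × List Ltr × Ct)) : Bool :=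
  List.rec (motive := fun _ => Bool) true
    (fun c _ ih => and (eqF (fl wgen5 c.1) c.2.1) (and (is47 (cat (c.2.1 :: hs) c.2.2.1) c.2.2.2.1 c.2.2.2.2) ih)) L

theorem tstR {K : Subgroup G} (hB : Big K) {hs : List (List Ltr)} (hK : ∀ s ∈ hs, g s ∈ K)
    {L : List (List (Fin 6 × ℕ) × List Ltr × Ct)} (h : allR hs L = true) :
    ∀ w ∈ L.map Prod.fst, Tst K (ev gen5 w) := by
  induction L with
  | nil => intro w hw; exact absurd hw (by simp)
  | cons c L ih =>
    have h' : and (eqF (fl wgen5 c.1) c.2.1) (and (is47 (cat (c.2.1 :: hs) c.2.2.1) c.2.2.2.1 c.2.2.2.2) (allR hs L)) =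
      true := h
    rw [Bool.and_eq_true, Bool.and_eq_true] at h'
    intro w hw
    rcases List.mem_cons.1 hw with rfl | hw
    · rw [← g_fl5, eq_of_eqF h'.1]
      exact tst_of hB hK h'.2.1
    · exact ih h'.2.2 w hw

theorem all_app {α : Type} {P : α → Prop} {l m : List α} (h1 : ∀ w ∈ l, P w) (h2 : ∀ w ∈ m, P w) :
    ∀ w ∈ l ++ m, P w := fun w hw => (List.mem_append.1 hw).elim (h1 w) (h2 w)

end Cfsg.Agent.BX.Five

private theorem eqs_bx15_tstr : _root_.True := by
  try have : _root_.True := by simp only [_root_.Cfsg.Agent.BX.Five.allR.eq_1]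
  trivial
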